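import Mathlib.GroupTheory.OrderOfElement
import Mathlib.Algebra.Group.Conj
import Mathlib.Tactic.Group
import Mathlib.Data.Nat.Prime.Basic

/-!
# One class `C` of elements of prime order with `C C ⊇ G ∖ {1}` (S4173, S2464, S2452; helper494)

* `PP G` : some `x` of prime order, prime to 6, such that every `g ≠ 1` is a product of two conjugates of `x`;
* `PP.of_equiv`, `PP.tc`, `PP.classes` (S4173), `PP.cop` (S2464), `PP.three` (S2452).
-/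

set_option autoImplicit false

namespace Cfsg.Agent.H494.TC

universe u v

/-- every `g ≠ 1` is a product of two conjugates of `x`, `x` of prime order prime to 6 -/
def PP (G : Type u) [Group G] : Prop :=
  ∃ x : G, (orderOf x).Prime ∧ Nat.Coprime (orderOf x) 6 ∧
    ∀ g : G, g ≠ 1 → ∃ u v : G, g = (u * x * u⁻¹) * (v * x * v⁻¹)

variable {G : Type u} [Group G] {H : Type v} [Group H]

theorem PP.of_equiv (e : G ≃* H) (h : PP H) : PP G := by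
  obtain ⟨x, hx, hc, h⟩ := h
  refine ⟨e.symm x, by rwa [MulEquiv.orderOf_eq], by rwa [MulEquiv.orderOf_eq], fun g hg => ?_⟩
  obtain ⟨u, v, e'⟩ := h (e g) (by
    intro h1
    exact hg (e.injective (by rw [h1, map_one])))
  refine ⟨e.symm u, e.symm v, ?_⟩
  apply e.injective
  rw [e']
  simp

/-- two classes -/
theorem PP.tc (h : PP G) : ∃ a b : G, ∀ g : G, g ≠ 1 → ∃ u v : G, g = (u * a * u⁻¹) * (v * b * v⁻¹) := by
  obtain ⟨x, -, -, h⟩ := h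
  exact ⟨x, x, h⟩

/-- S4173 -/
theorem PP.classes (h : PP G) : ∃ C₁ C₂ : ConjClasses G, ∀ g : G, g ≠ 1 → ∃ x ∈ C₁.carrier, ∃ y ∈ C₂.carrier, g = x * y := by
  obtain ⟨a, b, h⟩ := h.tc
  refine ⟨ConjClasses.mk a, ConjClasses.mk b, fun g hg => ?_⟩
  obtain ⟨u, v, e⟩ := h g hg
  refine ⟨u * a * u⁻¹, ?_, v * b * v⁻¹, ?_, e⟩
  · rw [ConjClasses.mem_carrier_iff_mk_eq, ConjClasses.mk_eq_mk_iff_isConj]
    exact isConj_iff.2 ⟨u⁻¹, by group⟩
  · rw [ConjClasses.mem_carrier_iff_mk_eq, ConjClasses.mk_eq_mk_iff_isConj]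
    exact isConj_iff.2 ⟨v⁻¹, by group⟩

/-- S2464 -/
theorem PP.cop (h : PP G) : ∃ x y : G, Nat.Coprime (orderOf x) 6 ∧ Nat.Coprime (orderOf y) 6 ∧
    ∀ g : G, g ≠ 1 → ∃ u v : G, g = (u * x * u⁻¹) * (v * y * v⁻¹) := by
  obtain ⟨x, -, hc, h⟩ := h
  exact ⟨x, x, hc, hc, h⟩

/-- three conjugates -/
theorem three_of {x : G} (h2 : ∀ g : G, g ≠ 1 → ∃ u v : G, g = (u * x * u⁻¹) * (v * x * v⁻¹))
    (hx : ∃ w : G, w * x * w⁻¹ ≠ x) (g : G) :
    ∃ u v w : G, g = (u * x * u⁻¹) * (v * x * v⁻¹) * (w * x * w⁻¹) := by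
  obtain ⟨w, hw⟩ : ∃ w : G, w * x * w⁻¹ ≠ g := by
    obtain ⟨w, hw⟩ := hx
    by_cases h1 : x = g
    · exact ⟨w, by rw [← h1]; exact hw⟩
    · exact ⟨1, by simpa using h1⟩
  obtain ⟨u, v, e⟩ := h2 (g * (w * x * w⁻¹)⁻¹) (by
    intro h1
    exact hw (mul_inv_eq_one.1 h1).symm)
  exact ⟨u, v, w, by rw [← e]; group⟩

/-- S2452 -/
theorem PP.three (h : PP G) (hG : ∃ a b : G, a * b ≠ b * a) : ∃ x y : G, (orderOf x).Prime ∧
    ((orderOf y).Prime ∨ ∃ s₁ s₂ : ℕ, s₁.Prime ∧ s₂.Prime ∧ s₁ ≠ s₂ ∧ orderOf y = s₁ * s₂) ∧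
      (∀ g : G, g ≠ 1 → ∃ u v : G, g = (u * x * u⁻¹) * (v * y * v⁻¹)) ∧
      (∀ g : G, ∃ u v w : G, g = (u * x * u⁻¹) * (v * x * v⁻¹) * (w * x * w⁻¹)) := by
  obtain ⟨x, hp, -, h⟩ := h
  refine ⟨x, x, hp, Or.inl hp, h, three_of h ?_⟩
  by_contra hcon
  push Not at hcon
  -- `x` is central: every element is a power of `x`
  have key : ∀ g : G, ∃ n : ℤ, g = x ^ n := by
    intro g
    by_cases hg : g = 1
    · exact ⟨0, by rw [hg, zpow_zero]⟩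
    · obtain ⟨u, v, e⟩ := h g hg
      rw [hcon u, hcon v] at e
      exact ⟨2, by rw [e, zpow_two]⟩
  obtain ⟨a, b, hab⟩ := hG
  obtain ⟨m, rfl⟩ := key a
  obtain ⟨n, rfl⟩ := key b
  exact hab (by rw [← zpow_add, ← zpow_add, add_comm])

end Cfsg.Agent.H494.TC
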